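import Groth.Agent.L23.GlobSec
import Groth.Agent.L23.SliceQcoh
import Groth.Agent.L23.Support

/-!
# Perfect objects on quasi-compact spaces are bounded above
-/

set_option autoImplicit false
set_option linter.style.haveILetI false
set_option backward.isDefEq.respectTransparency false
set_option backward.isDefEq.respectTransparency.types false

universe u

open CategoryTheory CategoryTheory.Limits AlgebraicGeometry Opposite AlgSp

attribute [local instance] HasDerivedCategory.standard

noncomputable section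

namespace Groth.L09.SpPerf

open Groth.L23.GlobSec

variable {S : Scheme.{u}} [QuasiSeparatedSpace ↥S] (X : AlgSp.Space S)

theorem sect_eq_zero_of_isZero_res {M : ModEt X.obj} {V W : EtOver X.obj}
    (h : IsZero ((resModEt V).obj M)) (f : W ⟶ V) (s : sectModEt M W) : s = 0 := by
  have e := (IsZero.iff_id_eq_zero _).1 h
  exact congr($(congrArg (fun t : (resModEt V).obj M ⟶ (resModEt V).obj M => t.val.app (op (Over.mk f))) e) s)

/-- A module vanishing on a covering of an atlas vanishes. -/
theorem isZero_of_cover_atlas (a : Atlas X.obj) (M : ModEt X.obj) {ι : Type*} (V : ι → EtOver X.obj)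
    (g : ∀ i, V i ⟶ a.U) (hcov : ∀ x : a.U.obj.left.left, ∃ i, x ∈ Set.range (g i).hom.left.left)
    (h : ∀ i, IsZero ((resModEt (V i)).obj M)) : IsZero M := by
  refine (IsZero.iff_id_eq_zero M).2 (SheafOfModules.hom_ext (PresheafOfModules.hom_ext fun E =>
    ModuleCat.hom_ext (LinearMap.ext fun x => ?_)))
  show x = 0
  let F : AbEt X.obj := (SheafOfModules.toSheaf (OEtRing X.obj)).obj M
  choose W hW q k hq using exists_nhd (a := a) E.unop
  refine Groth.L23.Supp.eq_zero_of_cover F x _
    (ofArrows_mem_etTop W q fun e => ⟨e, hq e⟩) fun T f hf => ?_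
  obtain ⟨e, l, rfl⟩ := (Sieve.mem_ofArrows_iff _ _ _).1 hf
  rw [Groth.L23.Supp.map_comp_apply']
  have hz : (F.obj.map (q e).op).hom x = 0 := by
    refine Groth.L23.Supp.eq_zero_of_cover F _ _
      ((etTop X.obj).pullback_stable (k e) (ofArrows_mem_etTop V g hcov)) fun T' f' hf' => ?_
    obtain ⟨i, l', -⟩ := (Sieve.mem_ofArrows_iff _ _ _).1 hf'
    exact sect_eq_zero_of_isZero_res X (h i) l' _
  rw [hz, map_zero]

/-- A perfect object is bounded above. -/
theorem exists_isLE_of_perfect (hXc : IsQuasiCompactSp X.obj) (hXs : IsQuasiSeparatedSp X.obj)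
    {K : DModEt X.obj} (hK : IsPerfectEtD K) : ∃ b : ℤ, K.IsLE b := by
  classical
  obtain ⟨a⟩ := nonempty_atlas X hXc hXs
  haveI := a.aff
  obtain ⟨ι, V, g, hcov, hP⟩ := hK a.U
  rw [ofArrows_mem_etPre_iff] at hcov
  choose E hE e using hP
  choose lo hi hb using fun i => (hE i).1
  obtain ⟨t, ht⟩ := isCompact_univ.elim_finite_subcover
    (fun i => Set.range (g i).hom.left.left)
    (fun i => by haveI := EtOver.etale_left (g i); exact (g i).hom.left.left.isOpenMap.isOpen_range)
    (fun x _ => Set.mem_iUnion.2 (hcov x))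
  obtain ⟨b, hb'⟩ := (t.image hi).bddAbove
  refine ⟨b, ?_⟩
  rw [DerivedCategory.isLE_iff]
  intro j hj
  refine isZero_of_cover_atlas X a _ (fun i : t => V i.1) (fun i => g i.1) (fun x => ?_) fun i => ?_
  · obtain ⟨i, hi', hx⟩ := Set.mem_iUnion₂.1 (ht (Set.mem_univ x))
    exact ⟨⟨i, hi'⟩, hx⟩
  · have hij : hi i.1 < j := (hb' (Finset.mem_coe.2 (Finset.mem_image_of_mem hi i.2))).trans_lt hj
    obtain ⟨e₁⟩ := Groth.L10.WSerreLib.homology_map_iso (resModEt (V i.1)) K j
    have hz : IsZero ((E i.1).homology j) :=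
      ShortComplex.isZero_homology_of_isZero_X₂ _ (hb i.1 j (Or.inr hij))
    exact (hz.of_iso (((DerivedCategory.homologyFunctor (ModEtOn (V i.1)) j).mapIso (e i.1).some) ≪≫
      (DerivedCategory.homologyFunctorFactors (ModEtOn (V i.1)) j).app (E i.1))).of_iso e₁.symm

end Groth.L09.SpPerf
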